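import Cfsg.Prelude.Def_BaumannBlocks

/-!
The conclusion of the local `C*(G,T)`-theorem as a hypothesis, so that its consumers can be
developed independently of its proof.
-/

set_option autoImplicit false

namespace CfsgLib.LocalCT

universe u

/-- The local `C*(G,T)`-theorem, as a hypothesis for all groups of the universe `u`. -/
def CStarThm : Prop :=
  ∀ {G : Type u} [Group G] [Finite G] {p : ℕ} [Fact p.Prime],
    Subgroup.centralizer (Cfsg.pCore p G : Set G) ≤ Cfsg.pCore p G →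
    ∀ T : Sylow p G, Cfsg.cStarOf p (T : Subgroup G) ≠ ⊤ →
      ∃ 𝓑 : Set (Subgroup G), Cfsg.HasBaumannBlockStructure p (T : Subgroup G) 𝓑

/-- The local `C(G,T)`-theorem, as a hypothesis. -/
def CharThm : Prop :=
  ∀ {G : Type u} [Group G] [Finite G] {p : ℕ} [Fact p.Prime],
    Subgroup.centralizer (Cfsg.pCore p G : Set G) ≤ Cfsg.pCore p G →
    ∀ T : Sylow p G, Cfsg.charNormalizersJoin (T : Subgroup G) ≠ ⊤ →
      ∃ 𝓑 : Set (Subgroup G), Cfsg.HasBaumannBlockStructure p (T : Subgroup G) 𝓑 ∧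
        ∀ E ∈ 𝓑, ∀ m : ℕ,
          Nonempty (↥E ⧸ Cfsg.pCore p ↥E ≃* ↥(alternatingGroup (Fin (2 * m + 1)))) →
          ∃ n : ℕ, 2 * m + 1 = 2 ^ n + 1

end CfsgLib.LocalCT
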