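import Cfsg.Agent.LocalCT.LinearSpec

/-!
# The linear algebra of transvection clusters and of orthogonal root subgroups

Proofs of the three statements wanted in `LinearSpec`.
-/

set_option autoImplicit false
set_option linter.unusedSectionVars false

namespace CfsgLib.LocalCT

universe u v

variable {P : Type u} [Group P] {V : Type v} [AddCommGroup V] [DistribMulAction P V]

theorem zmod_two_cases (a : ZMod 2) : a = 0 ∨ a = 1 := by
  revert a; decide

namespace TvClass

variable {D : Set P} {cen : P → V} {f : P → V →+ ZMod 2} (h : TvClass P V D cen f)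

include h

theorem cen_conj {b c : P} (hb : b ∈ D) (hc : c ∈ D) (hbc : f b (cen c) = 1) :
    cen (b * c * b⁻¹) = cen c + cen b := by
  obtain ⟨w, hw⟩ := h.f_ne _ (h.conj b hb c hc)
  have h1 := (h.act _ (h.conj b hb c hc) w).2 hw
  rw [mul_smul, mul_smul] at h1
  rcases zmod_two_cases (f c (b⁻¹ • w)) with e | e
  · rw [(h.act c hc _).1 e, smul_inv_smul] at h1
    exact absurd (left_eq_add.1 h1) (h.cen_ne _ (h.conj b hb c hc))
  · rw [(h.act c hc _).2 e, smul_add, smul_inv_smul, (h.act b hb _).2 hbc] at h1
    exact (add_left_cancel h1).symm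

theorem eq_of_cen {b c : P} (hb : b ∈ D) (hc : c ∈ D) (he : cen b = cen c) : b = c := by
  classical
  by_contra hne
  refine h.indep {b, c} ?_ (Finset.insert_nonempty _ _) ?_ ?_
  · intro x hx
    simp only [Finset.coe_insert, Finset.coe_singleton, Set.mem_insert_iff, Set.mem_singleton_iff] at hx
    rcases hx with rfl | rfl <;> assumption
  · simp only [Finset.mem_insert, Finset.mem_singleton]
    rintro x (rfl | rfl) y (rfl | rfl)
    exacts [h.f_cen _ hb, he ▸ h.f_cen _ hb, he ▸ h.f_cen _ hc, h.f_cen _ hc]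
  · rw [Finset.sum_pair hne, he, h.two]

end TvClass

theorem clusterTrichotomy : ClusterTrichotomy P V := by
  classical
  intro D cen f h n τ hn C d hd
  have hpos : 0 < n := hn.pos
  let g : Fin n → ZMod 2 := fun j => if j = ⟨0, hpos⟩ then 0 else f d (cen (τ ⟨0, hpos⟩ j))
  have hg : ∀ j k, j ≠ k → f d (cen (τ j k)) = g j + g k := by
    intro j k hjk
    simp only [g]
    by_cases hj : j = ⟨0, hpos⟩
    · subst hj
      rw [if_pos rfl, if_neg (Ne.symm hjk), zero_add]
    by_cases hk : k = ⟨0, hpos⟩
    · subst hk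
      rw [if_pos rfl, if_neg hj, add_zero, C.symm]
    rw [if_neg hj, if_neg hk, ← C.add j ⟨0, hpos⟩ k hj (Ne.symm hk) hjk, map_add, C.symm j]
  -- the points are split by `g`; one side with at most one point gives the last two cases
  have small : ∀ c : ZMod 2, (∀ a b, g a = c → g b = c → a = b) →
      (∀ j k, j ≠ k → f d (cen (τ j k)) = 0) ∨
        ∃ i, ∀ j k, j ≠ k → f d (cen (τ j k)) = if i = j ∨ i = k then 1 else 0 := by
    intro c huniq
    by_cases hex : ∃ i, g i = c
    · obtain ⟨i, hi⟩ := hex
      refine Or.inr ⟨i, fun j k hjk => ?_⟩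
      rw [hg j k hjk]
      have hne : ∀ x, x ≠ i → g x ≠ c := fun x hx he => hx (huniq x i he hi)
      have key : ∀ a b c : ZMod 2, a ≠ c → b ≠ c → a + b = 0 := by decide
      have key' : ∀ a c : ZMod 2, a ≠ c → c + a = 1 := by decide
      by_cases hij : i = j
      · subst hij
        rw [if_pos (Or.inl rfl), hi]
        exact key' _ _ (hne k (Ne.symm hjk))
      by_cases hik : i = k
      · subst hik
        rw [if_pos (Or.inr rfl), hi, add_comm]
        exact key' _ _ (hne j hjk)
      rw [if_neg (not_or.2 ⟨hij, hik⟩)]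
      exact key _ _ c (hne j (Ne.symm hij)) (hne k (Ne.symm hik))
    · refine Or.inl fun j k hjk => ?_
      rw [hg j k hjk]
      have key : ∀ a b c : ZMod 2, a ≠ c → b ≠ c → a + b = 0 := by decide
      exact key _ _ c (fun e => hex ⟨j, e⟩) fun e => hex ⟨k, e⟩
  by_cases h0 : ∀ a b, g a = 0 → g b = 0 → a = b
  · exact Or.inr (small 0 h0)
  by_cases h1 : ∀ a b, g a = 1 → g b = 1 → a = b
  · exact Or.inr (small 1 h1)
  push Not at h0 h1
  obtain ⟨c, e, hc, he, hce⟩ := h0
  obtain ⟨a, b, ha, hb, hab⟩ := h1
  left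
  have hac : a ≠ c := fun x => by rw [x, hc] at ha; exact zero_ne_one ha
  have hae : a ≠ e := fun x => by rw [x, he] at ha; exact zero_ne_one ha
  have hbc : b ≠ c := fun x => by rw [x, hc] at hb; exact zero_ne_one hb
  have hbe : b ≠ e := fun x => by rw [x, he] at hb; exact zero_ne_one hb
  obtain ⟨x, hx⟩ : ∃ x : Fin n, x ∉ ({a, b, c, e} : Finset (Fin n)) := by
    by_contra hall
    push Not at hall
    have h4 : Finset.univ = ({a, b, c, e} : Finset (Fin n)) := (Finset.eq_univ_iff_forall.2 hall).symm
    have hcard : ({a, b, c, e} : Finset (Fin n)).card = 4 := by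
      simp [hab, hce, hac, hae, hbc, hbe]
    rw [← h4, Finset.card_univ, Fintype.card_fin] at hcard
    subst hcard
    exact absurd hn (by decide)
  simp only [Finset.mem_insert, Finset.mem_singleton, not_or] at hx
  obtain ⟨hxa, hxb, hxc, hxe⟩ := hx
  have dab : f d (cen (τ a b)) = 0 := by rw [hg a b hab, ha, hb]; rfl
  have dce : f d (cen (τ c e)) = 0 := by rw [hg c e hce, hc, he]; rfl
  have dac : f d (cen (τ a c)) = 1 := by rw [hg a c hac, ha, hc, add_zero]
  have dbe : f d (cen (τ b e)) = 1 := by rw [hg b e hbe, hb, he, add_zero]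
  have mab := C.mem a b hab
  have mce := C.mem c e hce
  have mac := C.mem a c hac
  have mbe := C.mem b e hbe
  have hd1 := h.conj _ mac _ hd
  have c1 : cen (τ a c * d * (τ a c)⁻¹) = cen d + cen (τ a c) :=
    h.cen_conj mac hd (by rw [h.symm _ mac _ hd, dac])
  have hf2 : f (τ b e) (cen (τ a c * d * (τ a c)⁻¹)) = 1 := by
    rw [c1, map_add, h.symm _ mbe _ hd, dbe, C.pair b e a c hbe hac,
      if_neg (Ne.symm hab), if_neg hbc, if_neg (Ne.symm hae), if_neg (Ne.symm hce)]
    rfl
  obtain ⟨d', hd'def⟩ : ∃ d', d' = τ b e * (τ a c * d * (τ a c)⁻¹) * (τ b e)⁻¹ := ⟨_, rfl⟩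
  have hd' : d' ∈ D := hd'def ▸ h.conj _ mbe _ hd1
  have c2 : cen d' = cen d + cen (τ a c) + cen (τ b e) := by
    rw [hd'def, h.cen_conj mbe hd1 hf2, c1]
  have hsum : cen (τ a c) + cen (τ b e) = cen (τ a b) + cen (τ c e) := by
    have e1 := C.add a b c hab hbc hac
    have e2 := C.add b c e hbc hce hbe
    calc cen (τ a c) + cen (τ b e) = cen (τ a b) + cen (τ c e) + (cen (τ b c) + cen (τ b c)) := by
          rw [← e1, ← e2]; abel
      _ = _ := by rw [h.two, add_zero]
  rw [add_assoc, hsum, ← add_assoc] at c2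
  by_cases e1 : d = τ a b
  · exact ⟨a, b, hab, e1⟩
  by_cases e2 : d = τ c e
  · exact ⟨c, e, hce, e2⟩
  exfalso
  have n1 : d' ≠ τ a b := fun x' => e2 (h.eq_of_cen hd mce (by
    rw [x', add_assoc] at c2
    calc cen d = cen d + (cen (τ a b) + cen (τ c e)) + (cen (τ a b) + cen (τ c e)) := by
          rw [add_assoc (cen d), h.two, add_zero]
      _ = cen (τ a b) + (cen (τ a b) + cen (τ c e)) := by rw [← c2]
      _ = cen (τ c e) := by rw [← add_assoc, h.two, zero_add]))
  have n2 : d' ≠ τ c e := fun x' => e1 (h.eq_of_cen hd mab (by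
    rw [x', add_assoc] at c2
    calc cen d = cen d + (cen (τ a b) + cen (τ c e)) + (cen (τ a b) + cen (τ c e)) := by
          rw [add_assoc (cen d), h.two, add_zero]
      _ = cen (τ c e) + (cen (τ a b) + cen (τ c e)) := by rw [← c2]
      _ = cen (τ a b) := by rw [add_comm, add_assoc, h.two, add_zero]))
  have n3 : d ≠ d' := by
    intro x'
    rw [← x', add_assoc] at c2
    have hz : cen (τ a c) + cen (τ b e) = 0 := by rw [hsum]; exact (left_eq_add.1 c2)
    have hne : τ a c ≠ τ b e := by
      intro heq
      have hp := C.pair a c a x hac (Ne.symm hxa)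
      rw [heq, C.pair b e a x hbe (Ne.symm hxa), if_neg (Ne.symm hab), if_neg (Ne.symm hxb),
        if_neg (Ne.symm hae), if_neg (Ne.symm hxe), if_pos rfl, if_neg (Ne.symm hxa),
        if_neg (Ne.symm hac), if_neg (Ne.symm hxc)] at hp
      exact absurd hp (by decide)
    refine hne (h.eq_of_cen mac mbe ?_)
    calc cen (τ a c) = cen (τ a c) + (cen (τ b e) + cen (τ b e)) := by rw [h.two, add_zero]
      _ = cen (τ b e) := by rw [← add_assoc, hz, zero_add]
  have n4 : τ a b ≠ τ c e := by
    intro heq
    have hp := C.pair a b a x hab (Ne.symm hxa)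
    rw [heq, C.pair c e a x hce (Ne.symm hxa), if_neg (Ne.symm hac), if_neg (Ne.symm hxc),
      if_neg (Ne.symm hae), if_neg (Ne.symm hxe), if_pos rfl, if_neg (Ne.symm hxa),
      if_neg (Ne.symm hab), if_neg (Ne.symm hxb)] at hp
    exact absurd hp (by decide)
  have pab : f (τ a b) (cen (τ c e)) = 0 := by
    rw [C.pair a b c e hab hce, if_neg hac, if_neg hae, if_neg hbc, if_neg hbe]; rfl
  have f' : f d' (cen (τ a b)) = 0 ∧ f d' (cen (τ c e)) = 0 ∧ f d (cen d') = 0 := by
    refine ⟨?_, ?_, ?_⟩
    · rw [h.symm _ hd' _ mab, c2, map_add, map_add, h.symm _ mab _ hd, dab, h.f_cen _ mab, pab]; rfl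
    · rw [h.symm _ hd' _ mce, c2, map_add, map_add, h.symm _ mce _ hd, dce, h.f_cen _ mce,
        h.symm _ mce _ mab, pab]; rfl
    · rw [c2, map_add, map_add, h.f_cen _ hd, dab, dce]; rfl
  refine h.indep {d, d', τ a b, τ c e} ?_ (Finset.insert_nonempty _ _) ?_ ?_
  · intro y hy
    simp only [Finset.coe_insert, Finset.coe_singleton, Set.mem_insert_iff, Set.mem_singleton_iff] at hy
    rcases hy with rfl | rfl | rfl | rfl <;> assumption
  · simp only [Finset.mem_insert, Finset.mem_singleton]
    obtain ⟨q1, q2, q3⟩ := f'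
    have fd := h.f_cen _ hd
    have fd' := h.f_cen _ hd'
    have fab := h.f_cen _ mab
    have fce := h.f_cen _ mce
    have r3 := (h.symm _ hd' _ hd).trans q3
    have r1 := (h.symm _ mab _ hd').trans q1
    have r2 := (h.symm _ mce _ hd').trans q2
    have r4 := (h.symm _ mab _ hd).trans dab
    have r5 := (h.symm _ mce _ hd).trans dce
    have r6 := (h.symm _ mce _ mab).trans pab
    rintro y (rfl | rfl | rfl | rfl) z (rfl | rfl | rfl | rfl) <;> assumption
  · rw [Finset.sum_insert (by simp [n3, e1, e2]), Finset.sum_insert (by simp [n1, n2]),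
      Finset.sum_pair n4, c2]
    calc cen d + (cen d + cen (τ a b) + cen (τ c e) + (cen (τ a b) + cen (τ c e)))
        = (cen d + cen d) + (cen (τ a b) + cen (τ a b)) + (cen (τ c e) + cen (τ c e)) := by abel
      _ = 0 := by simp [h.two]

theorem clusterExtend : ClusterExtend P V := by
  classical
  intro D cen f h n τ _ C d hd i hdi
  have hfd : ∀ j, j ≠ i → f d (cen (τ i j)) = 1 := fun j hj => by
    rw [hdi i j (Ne.symm hj), if_pos (Or.inl rfl)]
  let σ : Fin n → P := fun k => if k = i then d else τ i k * d * (τ i k)⁻¹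
  let E : Fin n → V := fun k => if k = i then 0 else cen (τ i k)
  have hσ : ∀ k, σ k ∈ D ∧ cen (σ k) = E k + cen d := by
    intro k
    simp only [σ, E]
    by_cases hk : k = i
    · rw [if_pos hk, if_pos hk, zero_add]
      exact ⟨hd, rfl⟩
    · have hm := C.mem i k (Ne.symm hk)
      rw [if_neg hk, if_neg hk, h.cen_conj hm hd (by rw [h.symm _ hm _ hd, hfd k hk]), add_comm]
      exact ⟨h.conj _ hm _ hd, rfl⟩
  have hE : ∀ j k, j ≠ k → cen (τ j k) = E j + E k := by
    intro j k hjk
    simp only [E]
    by_cases hj : j = i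
    · subst hj
      rw [if_pos rfl, if_neg (Ne.symm hjk), zero_add]
    by_cases hk : k = i
    · subst hk
      rw [if_pos rfl, if_neg hj, add_zero, C.symm]
    rw [if_neg hj, if_neg hk, ← C.add j i k hj (Ne.symm hk) hjk, C.symm j i]
  let τ' : Fin (n + 1) → Fin (n + 1) → P := fun x y =>
    Fin.lastCases (motive := fun _ => P) (Fin.lastCases (motive := fun _ => P) d σ y)
      (fun a => Fin.lastCases (motive := fun _ => P) (σ a) (τ a) y) x
  let H : Fin (n + 1) → V := fun x => Fin.lastCases (motive := fun _ => V) (cen d) E x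
  have t_ll : τ' (Fin.last n) (Fin.last n) = d := by simp [τ']
  have t_lc : ∀ b, τ' (Fin.last n) (Fin.castSucc b) = σ b := fun b => by simp [τ']
  have t_cl : ∀ a, τ' (Fin.castSucc a) (Fin.last n) = σ a := fun a => by simp [τ']
  have t_cc : ∀ a b, τ' (Fin.castSucc a) (Fin.castSucc b) = τ a b := fun a b => by simp [τ']
  have H_l : H (Fin.last n) = cen d := by simp [H]
  have H_c : ∀ a, H (Fin.castSucc a) = E a := fun a => by simp [H]
  have mem' : ∀ x y, x ≠ y → τ' x y ∈ D := by
    intro x y hxy
    induction x using Fin.lastCases with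
    | last =>
      induction y using Fin.lastCases with
      | last => exact absurd rfl hxy
      | cast b => rw [t_lc]; exact (hσ b).1
    | cast a =>
      induction y using Fin.lastCases with
      | last => rw [t_cl]; exact (hσ a).1
      | cast b => rw [t_cc]; exact C.mem a b fun e => hxy (by rw [e])
  have cen' : ∀ x y, x ≠ y → cen (τ' x y) = H x + H y := by
    intro x y hxy
    induction x using Fin.lastCases with
    | last =>
      induction y using Fin.lastCases with
      | last => exact absurd rfl hxy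
      | cast b => rw [t_lc, H_l, H_c, (hσ b).2, add_comm]
    | cast a =>
      induction y using Fin.lastCases with
      | last => rw [t_cl, H_l, H_c, (hσ a).2]
      | cast b => rw [t_cc, H_c, H_c]; exact hE a b fun e => hxy (by rw [e])
  have key : ∀ x y, x ≠ y → ∀ z, f (τ' x y) (H z) =
      ((if i.castSucc = x then 1 else 0) + (if i.castSucc = y then 1 else 0) +
        (if z = x then 1 else 0) + (if z = y then 1 else 0) : ZMod 2) := by
    intro x y hxy z
    have hm := mem' x y hxy
    induction z using Fin.lastCases with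
    | last =>
      rw [H_l, h.symm _ hm _ hd, cen' x y hxy, map_add]
      have F : ∀ w, f d (H w) = ((1 + (if i.castSucc = w then 1 else 0)) +
          (if Fin.last n = w then 1 else 0) : ZMod 2) := by
        intro w
        induction w using Fin.lastCases with
        | last =>
          rw [H_l, h.f_cen _ hd, if_neg (Fin.castSucc_ne_last i), if_pos rfl]; rfl
        | cast a =>
          rw [H_c, if_neg (Fin.castSucc_ne_last a).symm]
          simp only [E, Fin.castSucc_inj]
          by_cases ha : a = i
          · rw [if_pos ha, if_pos ha.symm, map_zero]; rfl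
          · rw [if_neg ha, if_neg (Ne.symm ha), hfd a ha]; rfl
      rw [F x, F y]
      generalize (if i.castSucc = x then (1 : ZMod 2) else 0) = p
      generalize (if i.castSucc = y then (1 : ZMod 2) else 0) = q
      generalize (if Fin.last n = x then (1 : ZMod 2) else 0) = r
      generalize (if Fin.last n = y then (1 : ZMod 2) else 0) = s
      revert p q r s
      decide
    | cast k =>
      rw [H_c]
      by_cases hk : k = i
      · subst hk
        simp only [E, if_true, map_zero]
        generalize (if k.castSucc = x then (1 : ZMod 2) else 0) = p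
        generalize (if k.castSucc = y then (1 : ZMod 2) else 0) = q
        revert p q
        decide
      have hik := C.mem i k (Ne.symm hk)
      simp only [E, if_neg hk]
      rw [h.symm _ hm _ hik, cen' x y hxy, map_add]
      have F : ∀ w, f (τ i k) (H w) = ((1 + (if i.castSucc = w then 1 else 0)) +
          (if k.castSucc = w then 1 else 0) : ZMod 2) := by
        intro w
        induction w using Fin.lastCases with
        | last =>
          rw [H_l, h.symm _ hik _ hd, hfd k hk, if_neg (Fin.castSucc_ne_last i),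
            if_neg (Fin.castSucc_ne_last k)]; rfl
        | cast a =>
          rw [H_c]
          simp only [E, Fin.castSucc_inj]
          by_cases ha : a = i
          · rw [if_pos ha, map_zero, if_pos ha.symm, if_neg (fun e => hk (e.trans ha))]; rfl
          · rw [if_neg ha, C.pair i k i a (Ne.symm hk) (Ne.symm ha), if_pos rfl, if_neg (Ne.symm ha),
              if_neg hk]
            abel
      rw [F x, F y]
      generalize (if i.castSucc = x then (1 : ZMod 2) else 0) = p
      generalize (if i.castSucc = y then (1 : ZMod 2) else 0) = q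
      generalize (if k.castSucc = x then (1 : ZMod 2) else 0) = r
      generalize (if k.castSucc = y then (1 : ZMod 2) else 0) = s
      revert p q r s
      decide
  refine ⟨τ', ⟨mem', ?_, ?_, ?_⟩, t_cc, ?_⟩
  · intro x y
    induction x using Fin.lastCases with
    | last =>
      induction y using Fin.lastCases with
      | last => rfl
      | cast b => rw [t_lc, t_cl]
    | cast a =>
      induction y using Fin.lastCases with
      | last => rw [t_lc, t_cl]
      | cast b => rw [t_cc, t_cc, C.symm]
  · intro x y z hxy hyz hxz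
    rw [cen' x y hxy, cen' y z hyz, cen' x z hxz]
    calc H x + H y + (H y + H z) = H x + (H y + H y) + H z := by abel
      _ = _ := by rw [h.two, add_zero]
  · intro x y z w hxy hzw
    have cm : ∀ p q : Fin (n + 1), (if p = q then (1 : ZMod 2) else 0) = if q = p then 1 else 0 :=
      fun p q => if_congr eq_comm rfl rfl
    rw [cen' z w hzw, map_add, key x y hxy z, key x y hxy w, cm x z, cm x w, cm y z, cm y w]
    generalize (if i.castSucc = x then (1 : ZMod 2) else 0) = p
    generalize (if i.castSucc = y then (1 : ZMod 2) else 0) = q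
    generalize (if z = x then (1 : ZMod 2) else 0) = r
    generalize (if z = y then (1 : ZMod 2) else 0) = s
    generalize (if w = x then (1 : ZMod 2) else 0) = t
    generalize (if w = y then (1 : ZMod 2) else 0) = o
    revert p q r s t o
    decide
  · rw [t_cl]
    simp [σ]

theorem moved_map (A : Subgroup P) (g : P) {x : V}
    (hx : x ∈ moved P V (A.map (MulAut.conj g).toMonoidHom)) : g⁻¹ • x ∈ moved P V A := by
  induction hx using AddSubgroup.closure_induction with
  | mem w hw =>
    obtain ⟨_, ⟨a, ha, rfl⟩, v, rfl⟩ := hw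
    refine AddSubgroup.subset_closure ⟨a, ha, g⁻¹ • v, ?_⟩
    show a • g⁻¹ • v - g⁻¹ • v = g⁻¹ • ((g * a * g⁻¹) • v - v)
    rw [smul_sub, mul_smul, mul_smul, inv_smul_smul]
  | zero => rw [smul_zero]; exact zero_mem _
  | add _ _ _ _ hy hz => rw [smul_add]; exact add_mem hy hz
  | neg _ _ hy => rw [smul_neg]; exact neg_mem hy

theorem moved_map' (A : Subgroup P) (g : P) {x : V} (hx : x ∈ moved P V A) :
    g • x ∈ moved P V (A.map (MulAut.conj g).toMonoidHom) := by
  induction hx using AddSubgroup.closure_induction with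
  | mem w hw =>
    obtain ⟨a, ha, v, rfl⟩ := hw
    refine AddSubgroup.subset_closure ⟨g * a * g⁻¹, ⟨a, ha, rfl⟩, g • v, ?_⟩
    rw [smul_sub, mul_smul, mul_smul, inv_smul_smul]
  | zero => rw [smul_zero]; exact zero_mem _
  | add _ _ _ _ hy hz => rw [smul_add]; exact add_mem hy hz
  | neg _ _ hy => rw [smul_neg]; exact neg_mem hy

theorem eq_bot_fix {A : Subgroup P} (h : moved P V A = ⊥) {a : P} (ha : a ∈ A) (v : V) : a • v = v :=
  sub_eq_zero.1 ((AddSubgroup.eq_bot_iff_forall _).1 h _ (AddSubgroup.subset_closure ⟨a, ha, v, rfl⟩))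

theorem orthOpposite : OrthOpposite P V := by
  intro _ R hR hfix hdisj hindep X hX D _ Y hY C₀ hC hXfix hopp ht hne hYX
  obtain ⟨t, htX, htC, htL, htfree⟩ := ht
  have hXt : ∀ g ∈ moved P V X, t⁻¹ • g ∈ moved P V X := fun g hg => moved_map X t (htX.symm ▸ hg)
  have hdec : ∀ v ∈ fixed P V X, t • v - v ∈ moved P V X ∧ t⁻¹ • v - v ∈ moved P V X := fun v hv => by
    rw [hXfix, AddSubgroup.mem_sup] at hv
    obtain ⟨g, hg, c, hc, rfl⟩ := hv
    have hc' : t⁻¹ • c = c := inv_smul_eq_iff.2 (htC c hc).symm
    constructor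
    · rw [smul_add, htC c hc]; simpa using sub_mem (htL g hg) hg
    · rw [smul_add, hc']; simpa using sub_mem (hXt g hg) hg
  -- the commutators of `Y` lie in `C₀`
  have hle : moved P V Y ≤ C₀ := by
    intro y hy
    obtain ⟨g, hg, c, hc, hgc⟩ := AddSubgroup.mem_sup.1 (hXfix ▸ hYX.1 hy)
    have hty : t • y = y + (t • g - g) := by rw [← hgc, smul_add, htC c hc]; abel
    by_cases he : Y.map (MulAut.conj t).toMonoidHom = Y
    · have hmem : t • y ∈ moved P V Y := by
        have := moved_map' Y t hy
        rwa [he] at this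
      have h0 : t • g - g ∈ moved P V Y ⊓ moved P V X :=
        AddSubgroup.mem_inf.2 ⟨by simpa [hty] using sub_mem hmem hy, sub_mem (htL g hg) hg⟩
      rw [hdisj Y hY X hX hYX hne, AddSubgroup.mem_bot, sub_eq_zero] at h0
      rw [← hgc, htfree g hg h0, zero_add]
      exact hc
    set Y' := Y.map (MulAut.conj t).toMonoidHom with hY'
    have split' : ∀ w ∈ moved P V Y', ∃ v ∈ moved P V Y, ∃ l ∈ moved P V X, w = v + l := fun w hw =>
      ⟨t⁻¹ • w, moved_map Y t hw, t • (t⁻¹ • w) - t⁻¹ • w,
        (hdec _ (hYX.1 (moved_map Y t hw))).1, by rw [smul_inv_smul]; abel⟩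
    have hYY' : Orth P V Y Y' := by
      constructor
      · rintro w hw _ ⟨a, ha, rfl⟩
        have h1 : t⁻¹ • w ∈ fixed P V Y := by
          have : t⁻¹ • w = w + (t⁻¹ • w - w) := by abel
          rw [this]
          exact add_mem (hfix Y hY hw) (hYX.2 (hdec w (hYX.1 hw)).2)
        show (t * a * t⁻¹) • w = w
        rw [mul_smul, mul_smul, h1 a ha, smul_inv_smul]
      · intro w hw
        obtain ⟨v, hv, l, hl, rfl⟩ := split' w hw
        exact add_mem (hfix Y hY hv) (hYX.2 hl)
    have hXY' : Orth P V X Y' := by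
      constructor
      · rintro l hl _ ⟨a, ha, rfl⟩
        show (t * a * t⁻¹) • l = l
        rw [mul_smul, mul_smul, hYX.2 (hXt l hl) a ha, smul_inv_smul]
      · intro w hw
        obtain ⟨v, hv, l, hl, rfl⟩ := split' w hw
        exact add_mem (hYX.1 hv) (hfix X hX hl)
    have hXne : X ≠ Y' := fun e => hne (Subgroup.map_injective (MulAut.conj t).injective (by
      show Y' = X.map (MulAut.conj t).toMonoidHom
      rw [htX, e]))
    have h0 : t • y ∈ (moved P V Y ⊔ moved P V X) ⊓ moved P V Y' :=
      ⟨hty ▸ add_mem (AddSubgroup.mem_sup_left hy) (AddSubgroup.mem_sup_right (sub_mem (htL g hg) hg)),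
        moved_map' Y t hy⟩
    rw [hindep Y hY X hX Y' (hR Y hY t) hYX hYY' hXY' hne (Ne.symm he) hXne, AddSubgroup.mem_bot,
      smul_eq_zero_iff_eq] at h0
    rw [h0]
    exact zero_mem _
  refine ⟨fun y hy d hd => hC y (hle hy) d hd, fun m hm a ha => ?_⟩
  obtain ⟨d, hd, l, hl, rfl⟩ := hopp m hm
  rw [smul_sub, hYX.2 hl a ha]
  have hal : a • d • l = d • l := by
    by_cases he : Y.map (MulAut.conj d⁻¹).toMonoidHom = Y
    · have hb : d⁻¹ * a * d⁻¹⁻¹ ∈ Y := by
        rw [← he]
        exact ⟨a, ha, rfl⟩
      have h1 := hYX.2 hl _ hb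
      rwa [inv_inv, mul_smul, mul_smul, inv_smul_eq_iff] at h1
    · set Y' := Y.map (MulAut.conj d⁻¹).toMonoidHom with hY'
      have hdY : ∀ y ∈ moved P V Y, d • y = y := fun y hy => hC y (hle hy) d hd
      have hsub : ∀ w ∈ moved P V Y', w ∈ moved P V Y := fun w hw => by
        have h1 := moved_map Y d⁻¹ hw
        rw [inv_inv] at h1
        have h2 := hdY _ h1
        have h3 : d • w = w := MulAction.injective d h2
        rwa [h3] at h1
      have hsup : ∀ w ∈ moved P V Y, w ∈ moved P V Y' := fun w hw => by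
        have h1 := moved_map' Y d⁻¹ hw
        rwa [inv_smul_eq_iff.2 (hdY w hw).symm] at h1
      have horth : Orth P V Y Y' :=
        ⟨fun w hw => hfix Y' (hR Y hY _) (hsup w hw), fun w hw => hfix Y hY (hsub w hw)⟩
      have hbot : moved P V Y = ⊥ := by
        refine le_bot_iff.1 fun w hw => ?_
        rw [← hdisj Y hY Y' (hR Y hY _) horth (Ne.symm he)]
        exact ⟨hw, hsup w hw⟩
      exact eq_bot_fix hbot ha _
  rw [hal]

end CfsgLib.LocalCT
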