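import Mathlib

/-!
Linear algebra of transvections and of transvection groups used by the local `C*(G,T)`-theorem:
the data and the exact statements wanted from it.
-/

set_option autoImplicit false

namespace CfsgLib.LocalCT

universe u v

variable (P : Type u) [Group P] (V : Type v) [AddCommGroup V] [DistribMulAction P V]

/-- A class `D` of transvections over the field with two elements in which noncommuting members
do so in both directions and commuting members have independent centres. -/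
structure TvClass (D : Set P) (cen : P → V) (f : P → V →+ ZMod 2) : Prop where
  faithful : ∀ g : P, (∀ v : V, g • v = v) → g = 1
  two : ∀ v : V, v + v = 0
  conj : ∀ b ∈ D, ∀ c ∈ D, b * c * b⁻¹ ∈ D
  act : ∀ b ∈ D, ∀ v : V, (f b v = 0 → b • v = v) ∧ (f b v = 1 → b • v = v + cen b)
  cen_ne : ∀ b ∈ D, cen b ≠ 0
  f_ne : ∀ b ∈ D, ∃ v, f b v = 1
  f_cen : ∀ b ∈ D, f b (cen b) = 0
  symm : ∀ b ∈ D, ∀ c ∈ D, f b (cen c) = f c (cen b)
  indep : ∀ s : Finset P, (↑s : Set P) ⊆ D → s.Nonempty →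
    (∀ b ∈ s, ∀ c ∈ s, f b (cen c) = 0) → ∑ b ∈ s, cen b ≠ 0

/-- The transpositions of a symmetric group on `n` points inside `D`. -/
structure Cluster (D : Set P) (cen : P → V) (f : P → V →+ ZMod 2) (n : ℕ)
    (τ : Fin n → Fin n → P) : Prop where
  mem : ∀ i j, i ≠ j → τ i j ∈ D
  symm : ∀ i j, τ i j = τ j i
  add : ∀ i j k, i ≠ j → j ≠ k → i ≠ k → cen (τ i j) + cen (τ j k) = cen (τ i k)
  pair : ∀ i j k l, i ≠ j → k ≠ l →
    f (τ i j) (cen (τ k l)) =
      ((if i = k then 1 else 0) + (if i = l then 1 else 0) +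
        (if j = k then 1 else 0) + (if j = l then 1 else 0) : ZMod 2)

/-- Wanted: a member of `D` is a transposition of the cluster, meets no point of it or exactly one. -/
def ClusterTrichotomy : Prop :=
  ∀ (D : Set P) (cen : P → V) (f : P → V →+ ZMod 2), TvClass P V D cen f →
    ∀ (n : ℕ) (τ : Fin n → Fin n → P), Odd n → Cluster P V D cen f n τ →
    ∀ d ∈ D, (∃ i j, i ≠ j ∧ d = τ i j) ∨
      (∀ j k, j ≠ k → f d (cen (τ j k)) = 0) ∨
      ∃ i, ∀ j k, j ≠ k → f d (cen (τ j k)) = if i = j ∨ i = k then 1 else 0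

/-- Wanted: a member meeting exactly one point adds a point to the cluster. -/
def ClusterExtend : Prop :=
  ∀ (D : Set P) (cen : P → V) (f : P → V →+ ZMod 2), TvClass P V D cen f →
    ∀ (n : ℕ) (τ : Fin n → Fin n → P), 3 ≤ n → Cluster P V D cen f n τ →
    ∀ d ∈ D, ∀ i, (∀ j k, j ≠ k → f d (cen (τ j k)) = if i = j ∨ i = k then 1 else 0) →
      ∃ τ' : Fin (n + 1) → Fin (n + 1) → P, Cluster P V D cen f (n + 1) τ' ∧
        (∀ j k : Fin n, τ' j.castSucc k.castSucc = τ j k) ∧ τ' i.castSucc (Fin.last n) = d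

/-- Fixed vectors. -/
def fixed (A : Subgroup P) : AddSubgroup V where
  carrier := {v | ∀ a ∈ A, a • v = v}
  zero_mem' := fun a _ => smul_zero a
  add_mem' := fun {v w} hv hw a ha => by rw [smul_add, hv a ha, hw a ha]
  neg_mem' := fun {v} hv a ha => by rw [smul_neg, hv a ha]

/-- Commutator vectors. -/
def moved (A : Subgroup P) : AddSubgroup V :=
  AddSubgroup.closure {w | ∃ a ∈ A, ∃ v : V, a • v - v = w}

/-- Two subgroups fix each other's commutators. -/
def Orth (A B : Subgroup P) : Prop :=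
  moved P V A ≤ fixed P V B ∧ moved P V B ≤ fixed P V A

/-- Wanted: in a class `R` of subgroups in which orthogonal distinct members have disjoint
commutators, a member orthogonal to one root subgroup of a natural module is orthogonal to the
opposite one, when some element `t` acts on the first line without fixed points. -/
def OrthOpposite : Prop :=
  Finite V → ∀ (R : Set (Subgroup P)),
    (∀ A ∈ R, ∀ g : P, A.map (MulAut.conj g).toMonoidHom ∈ R) →
    (∀ A ∈ R, moved P V A ≤ fixed P V A) →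
    (∀ A ∈ R, ∀ B ∈ R, Orth P V A B → A ≠ B → moved P V A ⊓ moved P V B = ⊥) →
    (∀ A ∈ R, ∀ B ∈ R, ∀ C ∈ R, Orth P V A B → Orth P V A C → Orth P V B C →
      A ≠ B → A ≠ C → B ≠ C → (moved P V A ⊔ moved P V B) ⊓ moved P V C = ⊥) →
    ∀ X ∈ R, ∀ D ∈ R, ∀ Y ∈ R, ∀ C₀ : AddSubgroup V,
      (∀ c ∈ C₀, ∀ d ∈ D, d • c = c) →
      fixed P V X = moved P V X ⊔ C₀ →
      (∀ m ∈ moved P V D, ∃ d ∈ D, ∃ l ∈ moved P V X, d • l - l = m) →
      (∃ t : P, X.map (MulAut.conj t).toMonoidHom = X ∧ (∀ c ∈ C₀, t • c = c) ∧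
        (∀ l ∈ moved P V X, t • l ∈ moved P V X) ∧
        ∀ l ∈ moved P V X, t • l = l → l = 0) →
      Y ≠ X → Orth P V Y X → Orth P V Y D

end CfsgLib.LocalCT
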